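import Mathlib
import Cfsg.Prelude.Def_TwoFusion
import Cfsg.Agent.Lib.Fusion.SylowIn
import Cfsg.Agent.Lib.Transfer.Criteria
/-!
An abelian strongly closed subgroup controls fusion in a Sylow subgroup.
-/

set_option autoImplicit false

namespace Cfsg.Agent.Lib.StrongClosedFusion

open Subgroup
open Cfsg.Agent.Lib.Fusion (IsSylowIn)
open scoped Pointwise

variable {G : Type*} [Group G] [Finite G] {p : ℕ} [Fact p.Prime]

theorem le_normalizer_of_isStronglyClosed {A S : Subgroup G} (hsc : Cfsg.IsStronglyClosed A S) :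
    S ≤ normalizer (A : Set G) := fun s hs => mem_normalizer_fintype fun a ha =>
  hsc.2 a ha s (mul_mem (mul_mem hs (hsc.1 ha)) (inv_mem hs))

/-- A conjugate in `S` whose normaliser meets `S` in one of its Sylow subgroups. -/
theorem exists_fullyNormalised (S : Sylow p G) {X : Subgroup G} (hX : X ≤ (S : Subgroup G)) :
    ∃ h : G, X.map (MulAut.conj h).toMonoidHom ≤ (S : Subgroup G) ∧
      IsSylowIn p ((S : Subgroup G) ⊓ normalizer (X.map (MulAut.conj h).toMonoidHom : Set G))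
        (normalizer (X.map (MulAut.conj h).toMonoidHom : Set G)) := by
  obtain ⟨R, hR⟩ := Fusion.exists_isSylowIn (p := p) (normalizer (X : Set G))
  obtain ⟨k₀, hk₀, hk₀R⟩ := hR.exists_conj_le (S.2.to_le hX) le_normalizer
  have hXR : X ≤ R := by
    intro x hx
    have h1 : k₀⁻¹ * x * k₀ ∈ X := by
      have := (mem_normalizer_iff.1 (inv_mem hk₀) x).1 hx
      rwa [inv_inv] at this
    have := hk₀R ⟨_, h1, rfl⟩
    simpa [mul_assoc] using this
  obtain ⟨S', hS'⟩ := hR.2.1.exists_le_sylow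
  obtain ⟨h, hh⟩ := MulAction.exists_smul_eq G S' S
  have hRS : R.map (MulAut.conj h).toMonoidHom ≤ (S : Subgroup G) := by
    rintro _ ⟨r, hr, rfl⟩
    rw [← hh]
    exact ⟨r, hS' hr, rfl⟩
  refine ⟨h, (map_mono hXR).trans hRS, ?_⟩
  have hn : R.map (MulAut.conj h).toMonoidHom ≤
      normalizer (X.map (MulAut.conj h).toMonoidHom : Set G) :=
    (map_mono hR.1).trans (le_normalizer_map _)
  have hN : normalizer (X.map (MulAut.conj h).toMonoidHom : Set G) =
      (normalizer (X : Set G)).map (MulAut.conj h).toMonoidHom :=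
    (map_equiv_normalizer_eq X (MulAut.conj h)).symm
  obtain ⟨R', hR'⟩ := Fusion.exists_isSylowIn (p := p)
    (normalizer (X.map (MulAut.conj h).toMonoidHom : Set G))
  have h1 : IsSylowIn p (R.map (MulAut.conj h).toMonoidHom)
      (normalizer (X.map (MulAut.conj h).toMonoidHom : Set G)) := by
    refine ⟨hn, hR.2.1.map _, ?_⟩
    rw [hN, relIndex_map_map_of_injective _ _ (MulAut.conj h).injective]
    exact hR.2.2
  refine h1.of_card_eq S.2.to_inf_left inf_le_right (le_antisymm ?_ ?_)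
  · exact h1.card_le S.2.to_inf_left inf_le_right
  · exact card_le_of_le (le_inf hRS hn)

/-- An abelian strongly closed subgroup controls the fusion of subgroups. -/
theorem exists_mem_normalizer_conj_eq (S : Sylow p G) {A : Subgroup G} (hA : IsMulCommutative A)
    (hsc : Cfsg.IsStronglyClosed A (S : Subgroup G)) {X : Subgroup G} (hX : X ≤ (S : Subgroup G))
    {g : G} (hg : ∀ x ∈ X, g * x * g⁻¹ ∈ (S : Subgroup G)) :
    ∃ n ∈ normalizer (A : Set G), ∀ x ∈ X, g * x * g⁻¹ = n * x * n⁻¹ := by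
  induction hk : Nat.card (S : Subgroup G) - Nat.card X using Nat.strong_induction_on
    generalizing X g with
  | _ k ih =>
  subst hk
  have hAS : A ≤ (S : Subgroup G) := hsc.1
  have hSA := le_normalizer_of_isStronglyClosed hsc
  by_cases hAX : A ≤ X
  · exact ⟨g, mem_normalizer_fintype fun a ha => hsc.2 a ha g (hg a (hAX ha)), fun x _ => rfl⟩
  -- larger subgroups
  have IH : ∀ W : Subgroup G, W ≤ (S : Subgroup G) → Nat.card X < Nat.card W → ∀ z : G,
      (∀ w ∈ W, z * w * z⁻¹ ∈ (S : Subgroup G)) →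
        ∃ n ∈ normalizer (A : Set G), ∀ w ∈ W, z * w * z⁻¹ = n * w * n⁻¹ := by
    intro W hW hlt z hz
    refine ih _ ?_ hW hz rfl
    have := card_le_of_le hW
    omega
  obtain ⟨h, hZS, hfull⟩ := exists_fullyNormalised S hX
  set Z := X.map (MulAut.conj h).toMonoidHom with hZ
  have hcardZ : Nat.card Z = Nat.card X := card_map_of_injective (MulAut.conj h).injective
  have hmemZ : ∀ x ∈ X, h * x * h⁻¹ ∈ Z := fun x hx => ⟨x, hx, rfl⟩
  -- conjugates of `Z` in `S` reach it by an element which behaves like one of `N(A)`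
  have step : ∀ (W : Subgroup G) (t : G), W ≤ (S : Subgroup G) → ¬ A ≤ W →
      W.map (MulAut.conj t).toMonoidHom = Z →
      ∃ m ∈ normalizer (Z : Set G), ∃ n ∈ normalizer (A : Set G),
        ∀ w ∈ W, m * (t * w * t⁻¹) * m⁻¹ = n * w * n⁻¹ := by
    intro W t hW hAW hWZ
    have hlt : W < (S : Subgroup G) := lt_of_le_of_ne hW fun e => hAW (e ▸ hAS)
    have h1 := Transfer.lt_inf_normalizer S.2 hlt
    set N := (S : Subgroup G) ⊓ normalizer (W : Set G)
    have hNZ : N.map (MulAut.conj t).toMonoidHom ≤ normalizer (Z : Set G) :=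
      hWZ ▸ (map_mono inf_le_right).trans (le_normalizer_map _)
    obtain ⟨m, hm, hmS⟩ := hfull.exists_conj_le (S.2.to_inf_left.map _) hNZ
    have hcard : Nat.card X < Nat.card N := by
      rw [← hcardZ, ← hWZ, card_map_of_injective (MulAut.conj t).injective]
      exact Set.ncard_lt_ncard h1 (Set.toFinite _)
    obtain ⟨n, hn, hnn⟩ := IH N inf_le_left hcard (m * t) fun w hw => by
      have := (hmS ⟨_, ⟨w, hw, rfl⟩, rfl⟩).1
      show m * t * w * (m * t)⁻¹ ∈ (S : Subgroup G)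
      rw [show m * t * w * (m * t)⁻¹ = m * (t * w * t⁻¹) * m⁻¹ by group]
      exact this
    refine ⟨m, hm, n, hn, fun w hw => ?_⟩
    rw [← hnn w (h1.le hw)]
    group
  -- elements normalising `Z` behave like elements of `N(A)`
  have mid : ¬ A ≤ Z → ∀ z ∈ normalizer (Z : Set G),
      ∃ n ∈ normalizer (A : Set G), ∀ u ∈ Z, z * u * z⁻¹ = n * u * n⁻¹ := by
    intro hAZ z hz
    let K : Subgroup G :=
      { carrier := {y | y ∈ normalizer (Z : Set G) ∧
          (∀ u ∈ A ⊓ Z, y * u * y⁻¹ = u) ∧ ∀ u ∈ Z, y * u * y⁻¹ * u⁻¹ ∈ A ⊓ Z}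
        one_mem' := ⟨one_mem _, fun u _ => by group, fun u _ => by simp⟩
        mul_mem' := by
          intro a b ha hb
          refine ⟨mul_mem ha.1 hb.1, fun u hu => ?_, fun u hu => ?_⟩
          · rw [show a * b * u * (a * b)⁻¹ = a * (b * u * b⁻¹) * a⁻¹ by group, hb.2.1 u hu,
              ha.2.1 u hu]
          · have h1 := hb.2.2 u hu
            rw [← ha.2.1 _ h1] at h1
            have := mul_mem h1 (ha.2.2 u hu)
            convert this using 1
            group
        inv_mem' := by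
          intro a ha
          have hinv : ∀ u ∈ A ⊓ Z, a⁻¹ * u * a⁻¹⁻¹ = u := fun u hu => by
            conv_lhs => rw [← ha.2.1 u hu]
            group
          refine ⟨inv_mem ha.1, hinv, fun u hu => ?_⟩
          have hv := (mem_normalizer_iff.1 (inv_mem ha.1) u).1 hu
          have := inv_mem (ha.2.2 _ hv)
          convert this using 1
          group }
    have hcl : ∀ y ∈ normalizer (Z : Set G), ∀ u ∈ A ⊓ Z, y * u * y⁻¹ ∈ A ⊓ Z := fun y hy u hu =>
      have h1 := (mem_normalizer_iff.1 hy u).1 hu.2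
      ⟨hsc.2 u hu.1 y (hZS h1), h1⟩
    have hKconj : ∀ y ∈ normalizer (Z : Set G), ∀ k ∈ K, y * k * y⁻¹ ∈ K := by
      intro y hy k hk
      refine ⟨mul_mem (mul_mem hy hk.1) (inv_mem hy), fun u hu => ?_, fun u hu => ?_⟩
      · have h1 := hk.2.1 _ (hcl y⁻¹ (inv_mem hy) u hu)
        calc y * k * y⁻¹ * u * (y * k * y⁻¹)⁻¹
            = y * (k * (y⁻¹ * u * y⁻¹⁻¹) * k⁻¹) * y⁻¹ := by group
          _ = u := by rw [h1]; group
      · have hv := (mem_normalizer_iff.1 (inv_mem hy) u).1 hu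
        have := hcl y hy _ (hk.2.2 _ hv)
        convert this using 1
        group
    set T := (S : Subgroup G) ⊓ K with hT
    have hTsyl : IsSylowIn p T K := by
      refine ⟨inf_le_right, S.2.to_inf_left, ?_⟩
      obtain ⟨R, hR⟩ := Fusion.exists_isSylowIn (p := p) K
      obtain ⟨k, hk, hkR⟩ := hfull.exists_conj_le hR.2.1 (hR.1.trans fun y hy => hy.1)
      have hle : R.map (MulAut.conj k).toMonoidHom ≤ T := fun x hx => by
        obtain ⟨r, hr, rfl⟩ := hx
        exact ⟨(hkR ⟨r, hr, rfl⟩).1, hKconj k hk r (hR.1 hr)⟩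
      have hc : Nat.card T = Nat.card R := le_antisymm (hR.card_le S.2.to_inf_left inf_le_right)
        ((card_map_of_injective (MulAut.conj k).injective).symm.le.trans (card_le_of_le hle))
      exact (hR.of_card_eq S.2.to_inf_left inf_le_right hc).2.2
    -- `K` is `T` times the centraliser of `Z`
    have hdec : ∀ k ∈ K, ∃ s ∈ T, ∀ u ∈ Z, k * u * k⁻¹ = s * u * s⁻¹ := by
      intro k hk
      set C := (centralizer (Z : Set G)).subgroupOf K with hC
      haveI : C.Normal := ⟨fun c hc y => by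
        rw [hC, mem_subgroupOf, mem_centralizer_iff] at hc ⊢
        intro u hu
        have h1 := hc _ ((mem_normalizer_iff.1 (inv_mem y.2.1) u).1 hu)
        calc u * ((y : G) * c * (y : G)⁻¹)
            = (y : G) * ((y : G)⁻¹ * u * (y : G)⁻¹⁻¹ * c) * (y : G)⁻¹ := by group
          _ = (y : G) * c * (y : G)⁻¹ * u := by rw [h1]; group⟩
      have hq : IsPGroup p (K ⧸ C) := by
        intro q
        obtain ⟨⟨y, hy⟩, rfl⟩ := QuotientGroup.mk_surjective q
        obtain ⟨e, he⟩ := (S.2.to_le hZS).exists_card_eq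
        refine ⟨e, ?_⟩
        rw [← QuotientGroup.mk_pow, QuotientGroup.eq_one_iff, hC, mem_subgroupOf,
          mem_centralizer_iff]
        intro u hu
        set t := y * u * y⁻¹ * u⁻¹ with ht
        have htA := hy.2.2 u hu
        have hn : ∀ i : ℕ, y ^ i * u * (y ^ i)⁻¹ = t ^ i * u := by
          intro i
          induction i with
          | zero => simp
          | succ i ihi =>
            calc y ^ (i + 1) * u * (y ^ (i + 1))⁻¹ = y * (y ^ i * u * (y ^ i)⁻¹) * y⁻¹ := by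
                  rw [pow_succ']; group
              _ = (y * t ^ i * y⁻¹) * (y * u * y⁻¹) := by rw [ihi]; group
              _ = t ^ i * (t * u) := by rw [hy.2.1 _ (pow_mem htA i), ht, inv_mul_cancel_right]
              _ = t ^ (i + 1) * u := by rw [← mul_assoc, ← pow_succ]
        have h1 := hn (p ^ e)
        have htp : t ^ p ^ e = 1 := by
          rw [← he]
          exact congrArg Subtype.val (pow_card_eq_one' (x := (⟨t, htA.2⟩ : Z)))
        rw [htp, one_mul] at h1
        show u * y ^ p ^ e = y ^ p ^ e * u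
        exact (mul_inv_eq_iff_eq_mul.1 h1).symm
      set P' := hTsyl.toSylow.mapSurjective (QuotientGroup.mk'_surjective C)
      have htop : (P' : Subgroup (K ⧸ C)) = ⊤ :=
        (P'.is_maximal' (hq.to_subgroup ⊤) le_top).symm
      obtain ⟨⟨s, hsK⟩, hs, hsk⟩ : ((⟨k, hk⟩ : K) : K ⧸ C) ∈ (P' : Subgroup (K ⧸ C)) :=
        htop ▸ mem_top _
      refine ⟨s, mem_subgroupOf.1 (show (⟨s, hsK⟩ : K) ∈ T.subgroupOf K from hs), fun u hu => ?_⟩
      have hc := mem_subgroupOf.1 (QuotientGroup.eq.1 hsk)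
      have h2 : u * (s⁻¹ * k) = s⁻¹ * k * u := mem_centralizer_iff.1 hc u hu
      calc k * u * k⁻¹ = s * (s⁻¹ * k * u) * k⁻¹ := by group
        _ = s * (u * (s⁻¹ * k)) * k⁻¹ := by rw [h2]
        _ = s * u * s⁻¹ := by group
    -- a larger subgroup
    obtain ⟨a, haA, haN, haZ⟩ : ∃ a ∈ A, a ∈ normalizer (Z : Set G) ∧ a ∉ Z := by
      have hlt : Z < A ⊔ Z := lt_of_le_of_ne le_sup_right fun e => hAZ (le_sup_left.trans e.ge)
      have h1 := Transfer.lt_inf_normalizer (S.2.to_le (sup_le hAS hZS)) hlt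
      obtain ⟨x, hx, hxZ⟩ := SetLike.exists_of_lt h1
      have hx' : x ∈ ((A : Set G) * (Z : Set G)) := by
        rw [← coe_mul_of_right_le_normalizer_left A Z (hZS.trans hSA)]
        exact hx.1
      obtain ⟨a, ha, u, hu, rfl⟩ := hx'
      refine ⟨a, ha, ?_, fun e => hxZ (mul_mem e hu)⟩
      have h2 : a * u ∈ normalizer (Z : Set G) := hx.2
      have hu' : u ∈ normalizer (Z : Set G) := le_normalizer hu
      have := mul_mem h2 ((normalizer (Z : Set G)).inv_mem hu')
      rwa [mul_inv_cancel_right] at this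
    have haK : a ∈ K := by
      refine ⟨haN, fun u hu => ?_, fun u hu => ⟨?_, ?_⟩⟩
      · rw [show a * u = u * a from congrArg Subtype.val (hA.is_comm.comm ⟨a, haA⟩ ⟨u, hu.1⟩),
          mul_inv_cancel_right]
      · rw [show a * u * a⁻¹ * u⁻¹ = a * (u * a⁻¹ * u⁻¹) by group]
        exact mul_mem haA ((mem_normalizer_iff.1 (hSA (hZS hu)) _).1 (inv_mem haA))
      · exact Z.mul_mem ((mem_normalizer_iff.1 haN u).1 hu) (Z.inv_mem hu)
    set R' := T ⊔ Z with hR'
    have hcard : Nat.card X < Nat.card R' := by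
      rw [← hcardZ]
      refine Set.ncard_lt_ncard (SetLike.coe_ssubset_coe.2
        (lt_of_le_of_ne le_sup_right fun e => haZ ?_)) (Set.toFinite _)
      rw [e]
      exact mem_sup_left ⟨hAS haA, haK⟩
    obtain ⟨k, hk, hkT⟩ := hTsyl.exists_conj_le (S.2.to_inf_left.map (MulAut.conj z).toMonoidHom)
      (show T.map (MulAut.conj z).toMonoidHom ≤ K by
        rintro _ ⟨t, ht, rfl⟩; exact hKconj z hz t ht.2)
    have hR'S : R' ≤ (S : Subgroup G) := sup_le inf_le_left hZS
    have hle : R'.map (MulAut.conj (k * z)).toMonoidHom ≤ R' := by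
      rw [hR', Subgroup.map_sup]
      refine sup_le ?_ ?_
      · rintro _ ⟨t, ht, rfl⟩
        refine mem_sup_left ?_
        have := hkT ⟨_, ⟨t, ht, rfl⟩, rfl⟩
        simpa [mul_assoc] using this
      · rintro _ ⟨u, hu, rfl⟩
        exact mem_sup_right ((mem_normalizer_iff.1 (mul_mem hk.1 hz) u).1 hu)
    obtain ⟨n, hn, hnn⟩ := IH R' hR'S hcard (k * z) fun w hw => hR'S (hle ⟨w, hw, rfl⟩)
    obtain ⟨s, hs, hss⟩ := hdec k⁻¹ (inv_mem hk)
    refine ⟨s * n, mul_mem (hSA hs.1) hn, fun u hu => ?_⟩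
    have hmem : k * z * u * (k * z)⁻¹ ∈ Z := (mem_normalizer_iff.1 (mul_mem hk.1 hz) u).1 hu
    calc z * u * z⁻¹ = k⁻¹ * (k * z * u * (k * z)⁻¹) * k⁻¹⁻¹ := by group
      _ = s * (k * z * u * (k * z)⁻¹) * s⁻¹ := hss _ hmem
      _ = s * (n * u * n⁻¹) * s⁻¹ := by rw [hnn u (mem_sup_right hu)]
      _ = _ := by group
  -- conjugates of `X` do not contain `A`
  have hnotle : ∀ (W : Subgroup G) (t : G), W ≤ (S : Subgroup G) →
      X.map (MulAut.conj t).toMonoidHom = W → ¬ A ≤ W := by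
    intro W t hW hXW hAW
    apply hAX
    intro a ha
    obtain ⟨x, hx, hxa⟩ : a ∈ X.map (MulAut.conj t).toMonoidHom := hXW.symm ▸ hAW ha
    have hxA : t⁻¹ * a * t⁻¹⁻¹ ∈ A := hsc.2 a ha t⁻¹ (by
      rw [← hxa]; simpa [mul_assoc] using hX hx)
    -- `t⁻¹` permutes `A`
    have hta : t * a * t⁻¹ ∈ A := by
      have hn : t⁻¹ ∈ normalizer (A : Set G) := mem_normalizer_fintype fun b hb => by
        obtain ⟨y, hy, rfl⟩ : b ∈ X.map (MulAut.conj t).toMonoidHom := hXW.symm ▸ hAW hb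
        exact hsc.2 _ hb t⁻¹ (by simpa [mul_assoc] using hX hy)
      have := (mem_normalizer_iff.1 (inv_mem hn) a).1 ha
      rwa [inv_inv] at this
    obtain ⟨y, hy, hyt⟩ : t * a * t⁻¹ ∈ X.map (MulAut.conj t).toMonoidHom := hXW.symm ▸ hAW hta
    exact (MulAut.conj t).injective (hyt : MulAut.conj t y = MulAut.conj t a) ▸ hy
  set Y := X.map (MulAut.conj g).toMonoidHom with hY
  have hYS : Y ≤ (S : Subgroup G) := by rintro _ ⟨x, hx, rfl⟩; exact hg x hx
  have hYZ : Y.map (MulAut.conj (h * g⁻¹)).toMonoidHom = Z := by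
    rw [hY, hZ, Subgroup.map_map]
    congr 1
    ext x
    simp [mul_assoc]
  obtain ⟨mX, hmX, nX, hnX, eX⟩ := step X h hX hAX rfl
  obtain ⟨mY, hmY, nY, hnY, eY⟩ := step Y (h * g⁻¹) hYS (hnotle Y g hYS rfl) hYZ
  obtain ⟨nZ, hnZ, eZ⟩ := mid (hnotle Z h hZS rfl) (mY * mX⁻¹) (mul_mem hmY (inv_mem hmX))
  refine ⟨nY⁻¹ * nZ * nX, mul_mem (mul_mem (inv_mem hnY) hnZ) hnX, fun x hx => ?_⟩
  have hw : nX * x * nX⁻¹ ∈ Z := by
    rw [← eX x hx]
    exact (mem_normalizer_iff.1 hmX _).1 (hmemZ x hx)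
  have e1 := eY _ (⟨x, hx, rfl⟩ : g * x * g⁻¹ ∈ Y)
  calc g * x * g⁻¹ = nY⁻¹ * (nY * (g * x * g⁻¹) * nY⁻¹) * nY := by group
    _ = nY⁻¹ * ((mY * mX⁻¹) * (mX * (h * x * h⁻¹) * mX⁻¹) * (mY * mX⁻¹)⁻¹) * nY := by
        rw [← e1]; group
    _ = nY⁻¹ * (nZ * (nX * x * nX⁻¹) * nZ⁻¹) * nY := by rw [eX x hx, eZ _ hw]
    _ = _ := by group

end Cfsg.Agent.Lib.StrongClosedFusion
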